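import Mathlib
import Cfsg.Agent.SymT.Loc
import Cfsg.Agent.S1774

/-! Reduction from P. Hall's theorem to the local hypothesis `Top`. -/

set_option autoImplicit false
set_option linter.unusedSectionVars false

namespace Cfsg.Agent.SymT

open Subgroup Cfsg Cfsg.Agent.PLocal Cfsg.Agent.PLocal.Amb Cfsg.Agent.TT
open Cfsg.Agent.PLocal.CP (IsCharP)

/-- cyclic, or of maximal class -/
def MC (R : Type*) [Group R] : Prop :=
  ∃ r : R, ∀ ρ, ρ ∈ zpowers r ∨ (r ^ 4 ≠ 1 ∧ ρ * r ^ 2 * ρ⁻¹ = (r ^ 2)⁻¹)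

theorem MC.equiv {R R' : Type*} [Group R] [Group R'] (e : R ≃* R') (h : MC R') : MC R := by
  obtain ⟨r, hr⟩ := h
  refine ⟨e.symm r, fun ρ => (hr (e ρ)).imp ?_ fun ⟨h1, h2⟩ => ⟨?_, e.injective ?_⟩⟩
  · rintro ⟨n, hn⟩
    exact ⟨n, e.injective (by simpa using hn)⟩
  · rwa [← map_pow, ne_eq, EmbeddingLike.map_eq_one_iff]
  · simpa using h2

theorem mc_dih {m : ℕ} (hm : 8 ≤ m) : MC (DihedralGroup m) := by
  have : NeZero m := ⟨by omega⟩
  refine ⟨DihedralGroup.r 1, fun ρ => ?_⟩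
  rcases ρ with i | i
  · exact Or.inl ⟨i.val, by simp⟩
  · refine Or.inr ⟨fun e => ?_, by simp⟩
    have := Nat.le_of_dvd (by norm_num) (DihedralGroup.orderOf_r_one ▸ orderOf_dvd_of_pow_eq_one e)
    omega

theorem mc_quat {m : ℕ} (hm : 4 ≤ m) : MC (QuaternionGroup m) := by
  have : NeZero m := ⟨by omega⟩
  refine ⟨QuaternionGroup.a 1, fun ρ => ?_⟩
  rcases ρ with i | i
  · exact Or.inl ⟨i.val, by simp only [zpow_natCast]; simp⟩
  · refine Or.inr ⟨fun e => ?_, ?_⟩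
    · have := Nat.le_of_dvd (by norm_num)
        (QuaternionGroup.orderOf_a_one ▸ orderOf_dvd_of_pow_eq_one e)
      omega
    · rw [mul_inv_eq_iff_eq_mul, eq_inv_mul_iff_mul_eq]
      simp

theorem mc_qd {R : Type*} [Group R] [Finite R] (h : IsQuasiDihedral R) : MC R := by
  obtain ⟨n, hn, hc, x, y, hx, hy, e⟩ := h
  obtain ⟨k, rfl⟩ : ∃ k, n = k + 3 := ⟨n - 3, by omega⟩
  have p3 : 2 ^ (k + 3) = 8 * 2 ^ k := by ring
  have p2 : 2 ^ (k + 3 - 1) = 4 * 2 ^ k := by rw [show k + 3 - 1 = k + 2 from rfl]; ring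
  have p1 : 0 < 2 ^ k := by positivity
  have h4 : x ^ 4 ≠ 1 := fun e => by
    have := Nat.le_of_dvd (by norm_num) (orderOf_dvd_of_pow_eq_one e)
    rw [hx, p3] at this
    omega
  have e2 : y * x ^ 2 * y⁻¹ = (x ^ 2)⁻¹ := by
    rw [← conj_pow, e, ← pow_mul, eq_inv_iff_mul_eq_one, ← pow_add, ← pow_orderOf_eq_one x, hx, p3, p2]
    congr 1
    omega
  have hy' : y ∉ zpowers x := by
    rintro ⟨j, rfl⟩
    refine h4 ?_
    rw [conj_eq ((Commute.refl x).zpow_left j |>.pow_right 2), eq_inv_iff_mul_eq_one, ← pow_add] at e2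
    exact e2
  have hi : (zpowers x).index = 2 := by
    have := (zpowers x).card_mul_index
    rw [hc, Nat.card_zpowers, hx, pow_succ _ (k + 3)] at this
    exact Nat.eq_of_mul_eq_mul_left (by positivity) this
  refine ⟨x, fun ρ => or_iff_not_imp_left.2 fun hρ => ⟨h4, ?_⟩⟩
  obtain ⟨j, hj⟩ := (mul_mem_iff_of_index_two hi).2 (iff_of_false hρ (mt inv_mem_iff.1 hy'))
  rw [show ρ = x ^ j * y by simp only [hj]; group,
    show x ^ j * y * x ^ 2 * (x ^ j * y)⁻¹ = x ^ j * (y * x ^ 2 * y⁻¹) * (x ^ j)⁻¹ by group, e2]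
  group

variable {G : Type*} [Group G] [Finite G]

theorem comm_of_odd_cyc {r g : G} (hr : IsPGroup 2 (zpowers r)) (hn : g ∈ 𝐍[zpowers r])
    (ho : (orderOf g).Coprime 2) : Commute g r := by
  obtain ⟨k, hk⟩ := IsPGroup.iff_card.1 hr
  have h1 := orderOf_map_dvd (zpowers r).normalizerMonoidHom ⟨g, hn⟩
  have h2 := orderOf_dvd_natCard ((zpowers r).normalizerMonoidHom ⟨g, hn⟩)
  rw [IsCyclic.card_mulAut, hk] at h2
  have h3 : Nat.totient (2 ^ k) ∣ 2 ^ k := by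
    rcases k with _ | k
    · simp
    · rw [Nat.totient_prime_pow_succ Nat.prime_two]
      simp [pow_succ]
  have h4 := orderOf_eq_one_iff.1 (Nat.eq_one_of_dvd_coprimes (ho.pow_right k)
    (by simpa using h1) (h2.trans h3))
  have h5 := congrArg Subtype.val (DFunLike.congr_fun h4 ⟨r, mem_zpowers r⟩)
  exact of_conj_eq h5

/-- P. Hall's decomposition, in the ambient group. -/
structure Hall (z r : G) (E R : Subgroup G) : Prop where
  zz : z * z = 1
  z1 : z ≠ 1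
  ch : IsCharP 2 (centralizer {z})
  EQ : E ≤ PP z
  RQ : R ≤ PP z
  ER : ∀ e ∈ E, ∀ ρ ∈ R, Commute e ρ
  dec : ∀ x ∈ PP z, ∃ e ∈ E, ∃ ρ ∈ R, x = e * ρ
  xs : E = ⊥ ∨ XS E z
  rR : r ∈ R
  mc : ∀ ρ ∈ R, ρ ∈ zpowers r ∨ (r ^ 4 ≠ 1 ∧ ρ * r ^ 2 * ρ⁻¹ = (r ^ 2)⁻¹)
  ci : ∀ v ∈ PP z, (∀ x ∈ PP z, Commute x v) → v * v = 1 → v = 1 ∨ v = z

theorem exists_hall {z : G} (hz : orderOf z = 2)
    (hQ : IsOfSymplecticType (generalizedFittingSubgroup (centralizer ({z} : Set G)))) :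
    ∃ r E R, Hall z r E R := by
  have e := (isPGroup_fstar_iff 2).1 hQ.1
  have ch : IsCharP 2 (centralizer ({z} : Set G)) := CP.isCharP_iff.2 ((fstar_eq_pCore_iff 2).1 e)
  rw [e] at hQ
  let f : pCore 2 (centralizer ({z} : Set G)) →* G := (Subgroup.subtype _).comp (Subgroup.subtype _)
  have hf : Function.Injective f := fun a b h => Subtype.ext (Subtype.ext h)
  have hm : ∀ x, f x ∈ PP z := fun x => ⟨x, x.2, rfl⟩
  have hs : ∀ x ∈ PP z, ∃ y, f y = x := by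
    rintro _ ⟨x, hx, rfl⟩
    exact ⟨⟨x, hx⟩, rfl⟩
  have zz : z * z = 1 := by rw [← pow_two, ← hz, pow_orderOf_eq_one]
  have z1 : z ≠ 1 := by rintro rfl; simp at hz
  have cz : ∀ x ∈ PP z, Commute x z := fun x hx => mem_cent.1 (pCoreOf_le 2 _ hx)
  obtain ⟨w, hw⟩ := hs z (ch ⟨mem_cent.2 rfl, fun x hx => cz x hx⟩)
  have ci : ∀ v ∈ PP z, (∀ x ∈ PP z, Commute x v) → v * v = 1 → v = 1 ∨ v = z := by
    intro v hv h1 h2
    obtain ⟨v, rfl⟩ := hs v hv
    have := hQ.2 (center _) inferInstance inferInstance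
    rcases S1774.invol_unique (T := center _)
      (a := ⟨v, mem_center_iff.2 fun y => hf (by simpa using (h1 _ (hm y)).eq)⟩)
      (b := ⟨w, mem_center_iff.2 fun y => hf (by simpa [hw] using (cz _ (hm y)).eq)⟩)
      (Subtype.ext (hf (by simpa using h2))) (Subtype.ext (hf (by simpa [hw] using zz)))
      (fun e => z1 (by simpa [hw] using congrArg (fun x => f x.1) e)) with e | e
    · exact Or.inl (by simpa using congrArg (fun x => f x.1) e)
    · exact Or.inr ((congrArg (fun x => f x.1) e).trans hw)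
  obtain ⟨E, R, hER, htop, hE, hR⟩ := S3762.result hQ.1 hQ.2
  obtain ⟨r, hr⟩ : MC R := by
    rcases hR with hR | ⟨-, h16, ⟨m, ⟨e⟩⟩ | ⟨m, ⟨e⟩⟩ | h⟩
    · obtain ⟨r, hr⟩ := hR.exists_generator
      exact ⟨r, fun ρ => Or.inl (hr ρ)⟩
    · rw [Nat.card_congr e.toEquiv, DihedralGroup.nat_card] at h16
      exact MC.equiv e (mc_dih (by omega))
    · refine MC.equiv e (mc_quat ?_)
      rw [Nat.card_congr e.toEquiv] at h16
      rcases m with _ | m
      · have : Infinite (ZMod (2 * 0)) := inferInstanceAs (Infinite ℤ)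
        have : Infinite (QuaternionGroup 0) := Infinite.of_injective QuaternionGroup.a
          fun _ _ h => QuaternionGroup.a.inj h
        simp at h16
      · rw [Nat.card_eq_fintype_card, QuaternionGroup.card] at h16
        omega
    · exact mc_qd h
  have hER' : ∀ e ∈ E.map f, ∀ ρ ∈ R.map f, Commute e ρ := by
    rintro _ ⟨e, he, rfl⟩ _ ⟨ρ, hρ, rfl⟩
    exact Commute.map (hER e he ρ hρ) f
  have dec : ∀ x ∈ PP z, ∃ e ∈ E.map f, ∃ ρ ∈ R.map f, x = e * ρ := fun x hx => by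
    obtain ⟨x, rfl⟩ := hs x hx
    obtain ⟨e, he, ρ, hρ, rfl⟩ := (mem_sup_of_le_normalizer_right (le_normalizer_iff.2
      fun e he ρ hρ => by rwa [conj_eq (hER e he ρ hρ)])).1 (htop.ge (mem_top x))
    exact ⟨_, ⟨e, he, rfl⟩, _, ⟨ρ, hρ, rfl⟩, map_mul f e ρ⟩
  have le : ∀ X : Subgroup _, X.map f ≤ PP z := by
    rintro X _ ⟨x, -, rfl⟩
    exact hm x
  refine ⟨f r, E.map f, R.map f, zz, z1, ch, le E, le R, hER', dec, hE.imp (fun e => by simp [e])
    fun hE => ?_, ⟨r, r.2, rfl⟩, ?_, ci⟩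
  · obtain ⟨v, hv⟩ := exists_XS_of_isExtraspecial hE
    have hv := hv.map f fun x _ e => hf (by simpa using e)
    rwa [(ci _ (hm v) (fun x hx => by
      obtain ⟨e, he, ρ, hρ, rfl⟩ := dec x hx
      exact Commute.mul_left (hv.z_comm e he) (hER' _ hv.z_mem ρ hρ).symm) hv.z_sq).resolve_left
      hv.z_ne] at hv
  · rintro _ ⟨ρ, hρ, rfl⟩
    refine (hr ⟨ρ, hρ⟩).imp ?_ fun ⟨h1, h2⟩ => ⟨fun e => h1 (Subtype.ext (hf (by simpa using e))), ?_⟩
    · rintro ⟨n, hn⟩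
      exact ⟨n, by simpa using congrArg (fun x => f x.1) hn⟩
    · simpa using congrArg (fun x => f x.1) h2

/-- `B` is larger than `⟨b⟩`. -/
def Big (z b : G) (P : Subgroup G) : Prop :=
  ∃ β, β * β = b ∧ (∀ x ∈ P, Commute x β) ∧ ∀ g, Commute g z → g * β * g⁻¹ * β⁻¹ ∈ zpowers b

/-- `C(z)` is a `2`-group with a cyclic subgroup of index at most two. -/
def Small (z : G) : Prop := IsPGroup 2 (centralizer ({z} : Set G)) ∧ ∃ r, z ∈ zpowers r ∧
  ∀ x, Commute x z → ∀ y, Commute y z → x ∉ zpowers r → y ∉ zpowers r → x * y ∈ zpowers r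

namespace Hall

variable {z r : G} {E R : Subgroup G} (h : Hall z r E R)
include h

theorem cz {x : G} (hx : x ∈ PP z) : Commute x z := mem_cent.1 (pCoreOf_le 2 _ hx)

theorem Ecm {e e' : G} (he : e ∈ E) (he' : e' ∈ E) : e * e' * e⁻¹ = e' ∨ e * e' * e⁻¹ = e' * z := by
  rcases h.xs with rfl | hE
  · simp [mem_bot.1 he]
  · exact hE.conj he he'

theorem Esq {e : G} (he : e ∈ E) : e * e = 1 ∨ e * e = z := by
  rcases h.xs with rfl | hE
  · simp [mem_bot.1 he]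
  · exact hE.sq he

theorem Ectr {e : G} (he : e ∈ E) (hc : ∀ y ∈ E, Commute y e) : e = 1 ∨ e = z := by
  rcases h.xs with rfl | hE
  · simp [mem_bot.1 he]
  · exact hE.cent e he fun y hy => (hc y hy).symm

theorem small_r (h2 : r * r = 1) :
    IsExtraspecial 2 (generalizedFittingSubgroup (centralizer ({z} : Set G))) ∨
      ∀ g, Commute g z → g = 1 ∨ g = z := by
  have h1 : R ≤ zpowers r := fun ρ hρ => (h.mc ρ hρ).resolve_right fun e => e.1 (by
    rw [show 4 = 2 * 2 from rfl, pow_mul, pow_two r, h2, one_pow])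
  have h3 : ∀ ρ ∈ R, ρ = 1 ∨ ρ = z := fun ρ hρ => by
    rcases (mem_zpowers_invol h2).1 (h1 hρ) with e | rfl
    · exact Or.inl e
    refine h.ci _ (h.RQ hρ) (fun x hx => ?_) h2
    obtain ⟨e, he, σ, hσ, rfl⟩ := h.dec x hx
    obtain ⟨n, rfl⟩ := h1 hσ
    exact (h.ER e he _ hρ).mul_left ((Commute.refl _).zpow_left n)
  rcases h.xs with rfl | hE
  · have h4 : ∀ x ∈ PP z, x = 1 ∨ x = z := fun x hx => by
      obtain ⟨e, he, σ, hσ, rfl⟩ := h.dec x hx
      simpa [mem_bot.1 he] using h3 σ hσ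
    refine Or.inr fun g hg => h4 g (h.ch ⟨mem_cent.2 hg, fun x hx => ?_⟩)
    rcases h4 x hx with rfl | rfl
    · simp
    · exact hg.symm
  left
  have h4 : ∀ x ∈ PP z, x ∈ E := fun x hx => by
    obtain ⟨e, he, σ, hσ, rfl⟩ := h.dec x hx
    rcases h3 σ hσ with rfl | rfl
    exacts [mul_mem he (one_mem _), mul_mem he hE.z_mem]
  rw [(fstar_eq_pCore_iff 2).2 (CP.isCharP_iff.1 h.ch)]
  rw [le_antisymm h.EQ h4] at hE
  let e := (pCore 2 (centralizer ({z} : Set G))).equivMapOfInjective _ (subtype_injective _)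
  have := hE.top.map e.symm.toMonoidHom fun x _ a => e.symm.injective (a.trans (map_one _).symm)
  exact XS.isExtraspecial_of_top (map_top_of_surjective e.symm.toMonoidHom e.symm.surjective ▸ this)

theorem large_r (h2 : r * r ≠ 1) : ∃ b P, Top z b P ∧ (P = PP z ∨ Big z b P) ∧
    (P ≤ zpowers b → Small z) ∧ (¬ P ≤ zpowers b → ∃ E ≤ P, XS E z ∧ ∀ x ∈ P, x ∈ E ∨ x * b ∈ E) := by
  have hr : IsPGroup 2 (zpowers r) := (isPGroup_pCoreOf 2 _).to_le (zpowers_le.2 (h.RQ h.rR))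
  obtain ⟨k, hk⟩ := IsPGroup.iff_card.1 hr
  rw [Nat.card_zpowers] at hk
  obtain ⟨m, rfl⟩ : ∃ m, k = m + 2 := ⟨k - 2, by
    by_contra e
    refine h2 (by
      rw [← pow_two, ← orderOf_dvd_iff_pow_eq_one, hk]
      exact pow_dvd_pow 2 (show k ≤ 1 by omega))⟩
  obtain ⟨b, hb⟩ : ∃ b, b = r ^ 2 ^ m := ⟨_, rfl⟩
  have br : b ∈ zpowers r := hb ▸ npow_mem_zpowers r _
  have ob : orderOf b = 4 := by
    rw [hb, orderOf_pow_of_dvd (by positivity) (hk ▸ pow_dvd_pow 2 (by omega)), hk, pow_add]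
    simp
  have b4 : b * b * (b * b) = 1 := by rw [← pow_orderOf_eq_one b, ob]; simp [pow_succ, mul_assoc]
  have b2 : b * b ≠ 1 := fun e => by
    have := orderOf_dvd_of_pow_eq_one ((pow_two b).trans e)
    rw [ob] at this
    omega
  have rR : zpowers r ≤ R := zpowers_le.2 h.rR
  have cr : ∀ x ∈ zpowers r, ∀ y ∈ zpowers r, Commute x y := by
    rintro _ ⟨i, rfl⟩ _ ⟨j, rfl⟩
    exact (Commute.refl r).zpow_zpow i j
  have m1 : r ^ 4 ≠ 1 → ∃ j, m = j + 1 := fun e => ⟨m - 1, by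
    by_contra e'
    exact e (by rw [← pow_orderOf_eq_one r, hk, show m = 0 by omega]; rfl)⟩
  have ib : ∀ ρ ∈ R, ρ ∉ zpowers r → ρ * b * ρ⁻¹ = b⁻¹ := fun ρ hρ e => by
    obtain ⟨e1, e2⟩ := (h.mc ρ hρ).resolve_left e
    obtain ⟨j, rfl⟩ := m1 e1
    rw [hb, pow_succ', pow_mul, ← conj_pow, e2, inv_pow]
  have bb : b * b = z := (h.ci _ (h.RQ (rR (mul_mem br br))) (fun x hx => by
    obtain ⟨e, he, ρ, hρ, rfl⟩ := h.dec x hx
    refine (h.ER e he _ (rR (mul_mem br br))).mul_left ?_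
    by_cases e : ρ ∈ zpowers r
    · exact cr _ e _ (mul_mem br br)
    · exact of_conj_eq (by
        rw [← conj_mul, ib ρ hρ e, ← mul_inv_rev, inv_eq_of_mul_eq_one_right b4])) b4).resolve_left b2
  have bi : b⁻¹ = b * z := inv_eq_of_mul_eq_one_right (by rw [← mul_assoc, bb, h.zz])
  have zr : z ∈ zpowers r := bb ▸ mul_mem br br
  have Ar : zpowers b ≤ zpowers r := zpowers_le.2 br
  have zA : z ∈ zpowers b := (mem_zp4 bb h.zz).2 (by simp)
  have mA : ∀ x ∈ zpowers r, x ^ 4 = 1 → x ∈ zpowers b := fun x hx e =>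
    Grp.SympT.mem_zpowers_of_cyclic inferInstance hx br (ob ▸ e)
  have nc : ∀ ρ ∈ R, Commute ρ b → ρ ∈ zpowers r := fun ρ hρ c => by_contra fun e =>
    b2 (mul_eq_one_iff_eq_inv.2 ((conj_eq c).symm.trans (ib ρ hρ e)))
  have mP : ∀ x, x ∈ E ⊔ zpowers b ↔ ∃ e ∈ E, ∃ a ∈ zpowers b, x = e * a := fun x =>
    mem_sup_of_le_normalizer_right (le_normalizer_iff.2 fun e he a ha => by
      rwa [conj_eq (h.ER e he a (rR (Ar ha)))])
  have PQ : E ⊔ zpowers b ≤ PP z := sup_le h.EQ (Ar.trans (rR.trans h.RQ))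
  have cP : ∀ x ∈ E ⊔ zpowers b, ∀ y ∈ zpowers r, Commute x y := fun x hx y hy => by
    obtain ⟨e, he, a, ha, rfl⟩ := (mP x).1 hx
    exact (h.ER e he y (rR hy)).mul_left (cr a (Ar ha) y hy)
  have zzz : ∀ x : G, x * z * z = x := fun x => by rw [mul_assoc, h.zz, mul_one]
  have sqm : ∀ e ∈ E, ∀ ρ ∈ R, e * ρ * (e * ρ) = e * e * (ρ * ρ) := fun e he ρ hρ => by
    rw [← pow_two, (h.ER e he ρ hρ).mul_pow, pow_two, pow_two]
  have in1 : ∀ x ∈ E ⊔ zpowers b, (∀ y ∈ PP z, x * y * x⁻¹ = y ∨ x * y * x⁻¹ = y * z) ∧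
      (x * x = 1 ∨ x * x = z) := fun x hx => by
    obtain ⟨e, he, a, ha, rfl⟩ := (mP x).1 hx
    refine ⟨fun y hy => ?_, ?_⟩
    · obtain ⟨e', he', ρ, hρ, rfl⟩ := h.dec y hy
      have c := h.cz (h.RQ hρ)
      have h3 : b * ρ * b⁻¹ = ρ ∨ b * ρ * b⁻¹ = ρ * z := by
        by_cases e : ρ ∈ zpowers r
        · exact Or.inl (conj_eq (cr b br ρ e))
        · right
          rw [show b * ρ * b⁻¹ = b * (ρ * b * ρ⁻¹)⁻¹ * ρ by group, ib ρ hρ e, inv_inv, bb, c.eq]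
      have h4 : a * ρ * a⁻¹ = ρ ∨ a * ρ * a⁻¹ = ρ * z := by
        rcases (mem_zp4 bb h.zz).1 ha with rfl | rfl | rfl | rfl
        · simp
        · exact h3
        · exact Or.inl (conj_eq c.symm)
        · rwa [show b * z * ρ * (b * z)⁻¹ = b * (z * ρ * z⁻¹) * b⁻¹ by group, conj_eq c.symm]
      have h5 : e * a * (e' * ρ) * (e * a)⁻¹ = e * e' * e⁻¹ * (e * (a * ρ * a⁻¹) * e⁻¹) := by
        rw [conj_mul, ← conj_eq (h.ER e' he' a (rR (Ar ha))).symm]
        rw [conj_mul, conj_eq (h.ER e' he' a (rR (Ar ha))).symm]; group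
      rw [h5, conj_eq (h.ER e he _ (mul_mem (mul_mem (rR (Ar ha)) hρ) (inv_mem (rR (Ar ha)))))]
      rcases h.Ecm he he' with e1 | e1 <;> rcases h4 with e2 | e2 <;> rw [e1, e2]
      · simp
      · simp [mul_assoc]
      · rw [mul_assoc, ← c.eq]; simp [mul_assoc]
      · rw [mul_assoc, ← mul_assoc z, ← c.eq, zzz]; simp
    · rw [sqm e he a (rR (Ar ha))]
      have : b * z * (b * z) = z := by rw [← bi, ← mul_inv_rev, bb, inv_eq_of_mul_eq_one_right h.zz]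
      rcases h.Esq he with e1 | e1 <;> rcases (mem_zp4 bb h.zz).1 ha with e2 | e2 | e2 | e2 <;>
        simp [e1, e2, bb, h.zz, this]
  have in3 : ∀ e ∈ E, ∀ ρ ∈ zpowers r, (e * ρ * (e * ρ) = 1 ∨ e * ρ * (e * ρ) = z) →
      e * ρ ∈ E ⊔ zpowers b := fun e he ρ hρ h1 => by
    refine (mP _).2 ⟨e, he, ρ, mA ρ hρ ?_, rfl⟩
    rw [sqm e he ρ (rR hρ)] at h1
    have : ρ * ρ = 1 ∨ ρ * ρ = z := by
      rcases h.Esq he with e1 | e1 <;> rw [e1] at h1
      · simpa using h1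
      · rw [mul_eq_one_iff_inv_eq, inv_eq_of_mul_eq_one_right h.zz] at h1
        simpa [or_comm, eq_comm] using h1
    rw [show 4 = 2 * 2 from rfl, pow_mul, pow_two, pow_two]
    rcases this with e1 | e1 <;> simp [e1, h.zz]
  have nQ : ∀ g, Commute g z → ∀ x ∈ PP z, g * x * g⁻¹ ∈ PP z := fun g hg x hx =>
    conj_mem_of_mem_normalizer (le_normalizer_pCoreOf 2 _ (mem_cent.2 hg)) hx
  have nP : ∀ g, Commute g z → ∀ x ∈ E ⊔ zpowers b, g * x * g⁻¹ ∈ E ⊔ zpowers b := by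
    intro g hg x hx
    obtain ⟨e, he, ρ, hρ, e1⟩ := h.dec _ (nQ g hg x (PQ hx))
    rw [e1]
    refine in3 e he ρ ((h.mc ρ hρ).resolve_right fun ⟨e2, e3⟩ => e2 ?_) ?_
    · have e4 : ρ * r * ρ⁻¹ = g * (x * (g⁻¹ * r * g⁻¹⁻¹) * x⁻¹) * g⁻¹ := by
        rw [← conj_eq (h.ER e he _ (mul_mem (mul_mem hρ h.rR) (inv_mem hρ)))]
        calc _ = (e * ρ) * r * (e * ρ)⁻¹ := by group
          _ = _ := by rw [← e1]; group
      have e5 : ρ * r * ρ⁻¹ = r ∨ ρ * r * ρ⁻¹ = r * z := by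
        rw [e4]
        refine ((in1 x hx).1 _ (nQ _ hg.inv_left r (h.RQ h.rR))).imp (fun e => ?_) fun e => ?_ <;>
          rw [e]
        · group
        · rw [← conj_mul, conj_eq hg]; group
      rw [← conj_pow, eq_inv_iff_mul_eq_one] at e3
      rcases e5 with e5 | e5 <;> rw [e5] at e3
      · rwa [← pow_add] at e3
      · rwa [(h.cz (h.RQ h.rR)).mul_pow, pow_two z, h.zz, mul_one, ← pow_add] at e3
    · rw [← e1, conj_mul]
      refine (in1 x hx).2.imp (fun e => ?_) fun e => ?_ <;> rw [e]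
      · simp
      · exact conj_eq hg
  have bP : b ∈ E ⊔ zpowers b := mem_sup_right (mem_zpowers b)
  have ctr : ∀ x ∈ E ⊔ zpowers b, (∀ y ∈ E ⊔ zpowers b, Commute y x) → x ∈ zpowers b := by
    intro x hx hc
    obtain ⟨e, he, a, ha, rfl⟩ := (mP x).1 hx
    rcases h.Ectr he fun y hy => by
      simpa using (hc y (mem_sup_left hy)).mul_right (h.ER y hy a (rR (Ar ha))).inv_right with
      rfl | rfl
    exacts [mul_mem (one_mem _) ha, mul_mem zA ha]
  have cc : ∀ g, Commute g z → ∀ x ∈ zpowers r, ∀ y ∈ E ⊔ zpowers b, Commute y (g * x * g⁻¹) :=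
    fun g hg x hx y hy => by simpa [mul_assoc] using (cP _ (nP _ hg.inv_left y hy) x hx).conj g
  have hL : Loc z b (E ⊔ zpowers b) := ⟨bb, h.zz, h.z1, fun g hg => by
    have e1 : g * b * g⁻¹ * (g * b * g⁻¹) = z := by rw [conj_mul, bb, conj_eq hg]
    rcases (mem_zp4 bb h.zz).1 (ctr _ (nP g hg b bP) (cc g hg b br)) with e | e | e | e
    · exact absurd (by rw [← e1, e, one_mul]) h.z1
    · exact Or.inl e
    · exact absurd (by rw [← e1, e, h.zz]) h.z1
    · exact Or.inr e, bP, fun x hx => cP x hx b br,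
    fun x hx y hy => ((in1 x hx).1 y (PQ hy)).imp_left of_conj_eq, fun x hx => (in1 x hx).2, ctr, nP⟩
  have nr : ∀ g, Commute g z → g * r * g⁻¹ ∈ zpowers r := fun g hg => by
    obtain ⟨e, he, ρ, hρ, e1⟩ := h.dec _ (nQ g hg r (h.RQ h.rR))
    have c := cc g hg r (mem_zpowers r)
    rw [e1] at c ⊢
    have h3 := nc ρ hρ (by
      simpa using ((h.ER e he b (rR br)).symm.inv_right.mul_right (c b bP)).symm)
    rcases h.Ectr he fun y hy => by
      simpa using (c y (mem_sup_left hy)).mul_right (h.ER y hy ρ hρ).inv_right with rfl | rfl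
    exacts [mul_mem (one_mem _) h3, mul_mem zr h3]
  have nr' : ∀ g, Commute g z → g ∈ 𝐍[zpowers r] := fun g hg => mem_normalizer_of_cj_le (by
    rw [MonoidHom.map_zpowers, zpowers_le]; exact nr g hg)
  refine ⟨b, _, ⟨hL, h.ch, PQ, fun x hx c e1 => ?_⟩, ?_, fun hs => ?_, fun hn => ?_⟩
  · obtain ⟨e, he, ρ, hρ, rfl⟩ := h.dec x hx
    exact in3 e he ρ (nc ρ hρ (by simpa using (h.ER e he b (rR br)).inv_left.mul_left c)) (Or.inl e1)
  · by_cases e : r ^ 4 = 1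
    · refine Or.inl (le_antisymm PQ fun x hx => ?_)
      obtain ⟨e', he, ρ, hρ, rfl⟩ := h.dec x hx
      have h3 := (h.mc ρ hρ).resolve_right fun a => a.1 e
      exact (mP _).2 ⟨e', he, ρ, zpowers_le.2 (mA r (mem_zpowers r) e) h3, rfl⟩
    obtain ⟨j, rfl⟩ := m1 e
    have βr := npow_mem_zpowers r (2 ^ j)
    have ββ : r ^ 2 ^ j * r ^ 2 ^ j = b := by rw [hb, pow_succ, pow_mul, pow_two]
    refine Or.inr ⟨_, ββ, fun x hx => cP x hx _ βr, fun g hg => ?_⟩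
    have h3 := conj_mem_of_mem_normalizer (nr' g hg) βr
    refine mA _ (mul_mem h3 (inv_mem βr)) ?_
    have : (r ^ 2 ^ j) ^ 4 = z := by rw [← bb, ← ββ]; simp [pow_succ, mul_assoc]
    rw [(cr _ h3 _ (inv_mem βr)).mul_pow, conj_pow, inv_pow, this, conj_eq hg, mul_inv_cancel]
  · have ix : ∀ x ∈ PP z, ∀ y ∈ PP z, x ∉ zpowers r → y ∉ zpowers r → x * y ∈ zpowers r := by
      have QR : PP z ≤ R := fun x hx => by
        obtain ⟨e, he, ρ, hρ, rfl⟩ := h.dec x hx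
        exact mul_mem (rR (Ar (hs (mem_sup_left he)))) hρ
      refine fun x hx y hy e1 e2 => nc _ (QR (mul_mem hx hy)) (of_conj_eq ?_)
      rw [show x * y * b * (x * y)⁻¹ = x * (y * b * y⁻¹) * x⁻¹ by group, ib y (QR hy) e2, ← conj_inv,
        ib x (QR hx) e1, inv_inv]
    have h2 : IsPGroup 2 (centralizer ({z} : Set G)) := isPGroup_of_forall_coprime fun g hg ho => by
      have hn := nr' g (mem_cent.1 hg)
      refine h.ch.eq_one hg ho (CP.mem_centralizer_of_commutator_mem hr ho (by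
        rw [centralizer_zpowers]; exact mem_cent.2 (comm_of_odd_cyc hr hn ho)) fun x hx => ?_)
      by_cases e : x ∈ zpowers r
      · exact mul_mem (conj_mem_of_mem_normalizer hn e) (inv_mem e)
      · exact ix _ (nQ g (mem_cent.1 hg) x hx) _ (inv_mem hx)
          (fun e' => e ((mem_normalizer_iff.1 hn x).2 e')) (mt inv_mem_iff.1 e)
    have e : PP z = centralizer {z} := pCoreOf_eq_self h2
    exact ⟨h2, r, zr, fun x hx y hy => ix x (e.ge (mem_cent.2 hx)) y (e.ge (mem_cent.2 hy))⟩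
  · have hE := h.xs.resolve_left fun e => hn (by simp [e])
    refine ⟨E, le_sup_left, hE, fun x hx => ?_⟩
    obtain ⟨e, he, a, ha, rfl⟩ := (mP x).1 hx
    rcases hL.memA.1 ha with rfl | rfl | rfl | rfl
    · exact Or.inl (mul_mem he (one_mem _))
    · exact Or.inr (by rw [mul_assoc, bb]; exact mul_mem he hE.z_mem)
    · exact Or.inl (mul_mem he hE.z_mem)
    · exact Or.inr (by rw [← bi]; simpa using he)

end Hall

end Cfsg.Agent.SymT
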