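import Mathlib
import Cfsg.Agent.SymT.Red
import Cfsg.Agent.Inv.CZ4Base

/-! The case in which no other conjugate of `z` centralizes `b`. -/

set_option autoImplicit false
set_option linter.unusedSectionVars false

namespace Cfsg.Agent.SymT

open Subgroup Cfsg Cfsg.Agent.PLocal Cfsg.Agent.PLocal.Amb Cfsg.Agent.TT
open Cfsg.Agent.PLocal.CP (IsCharP)
open Cfsg.Agent.Inv.CZ4 (Ix thompson)

variable {G : Type*} [Group G]

open Classical in
/-- The squaring form. -/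
noncomputable def qf (x : G) : ZMod 2 := if x * x = 1 then 0 else 1

theorem qf0 {x : G} : qf x = 0 ↔ x * x = 1 := by
  unfold qf; split_ifs with h <;> simp [h]

theorem qf_conj (g x : G) : qf (g * x * g⁻¹) = qf x := by
  classical exact if_congr (by simp) rfl rfl

theorem qf_inv (x : G) : qf x⁻¹ = qf x := by
  classical exact if_congr (by rw [← mul_inv_rev, inv_eq_one]) rfl rfl

theorem isConj_conj {z s : G} (h : IsConj z s) (g : G) : IsConj z (g * s * g⁻¹) :=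
  h.trans (isConj_iff.2 ⟨g, rfl⟩)

namespace Loc

variable {z b : G} {P : Subgroup G} (h : Loc z b P) {x y v g : G}
include h

theorem qf1 (hx : x ∈ P) : qf x = 1 ↔ x * x = z := by
  unfold qf
  split_ifs with e
  · simp [e, h.z1.symm]
  · simpa using (h.sq x hx).resolve_left e

theorem qf_mul (hx : x ∈ P) (hy : y ∈ P) : qf (x * y) = qf x + qf y + fm x y := by
  have hxy := mul_mem hx hy
  by_cases c : Commute x y
  · have e : x * y * (x * y) = x * x * (y * y) := by rw [← pow_two, c.mul_pow, pow_two, pow_two]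
    rw [fm0.2 c]
    rcases h.sq x hx with a | a <;> rcases h.sq y hy with a' | a' <;> rw [a, a'] at e
    · rw [qf0.2 a, qf0.2 a', qf0.2 (by simpa using e)]; rfl
    · rw [qf0.2 a, (h.qf1 hy).2 a', (h.qf1 hxy).2 (by simpa using e)]; rfl
    · rw [(h.qf1 hx).2 a, qf0.2 a', (h.qf1 hxy).2 (by simpa using e)]; rfl
    · rw [(h.qf1 hx).2 a, (h.qf1 hy).2 a', qf0.2 (e.trans h.zz)]; rfl
  · have e := h.sq_mul hx hy c
    rw [fm1.2 c]
    rcases h.sq x hx with a | a <;> rcases h.sq y hy with a' | a' <;> rw [a, a'] at e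
    · rw [qf0.2 a, qf0.2 a', (h.qf1 hxy).2 (by simpa using e)]; rfl
    · rw [qf0.2 a, (h.qf1 hy).2 a', qf0.2 (by simpa [h.zz] using e)]; rfl
    · rw [(h.qf1 hx).2 a, qf0.2 a', qf0.2 (by simpa [h.zz] using e)]; rfl
    · rw [(h.qf1 hx).2 a, (h.qf1 hy).2 a', (h.qf1 hxy).2 (by simpa [h.zz] using e)]; rfl

theorem qf_b : qf b = 1 := (h.qf1 h.bP).2 h.bb

theorem qf_z : qf z = 0 := qf0.2 h.zz

theorem eq_of_ev' (hx : x ∈ P) (hy : y ∈ P) (e : Ev P x y) (h2 : qf x = qf y) : y = x ∨ y = x * z :=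
  h.eq_of_ev hx hy e (by
    rcases z01 (qf x) with a | a
    · rw [qf0.1 a, qf0.1 (h2 ▸ a)]
    · rw [(h.qf1 hx).1 a, (h.qf1 hy).1 (h2 ▸ a)])

theorem mv_mul {g' w : G} (hg : Commute g' z) (e : Ev P (g * x * g⁻¹) y) (e' : Ev P (g' * y * g'⁻¹) w) :
    Ev P (g' * g * x * (g' * g)⁻¹) w := by
  have := (h.ev_conj hg e).trans e'
  rwa [show g' * (g * x * g⁻¹) * g'⁻¹ = g' * g * x * (g' * g)⁻¹ by group] at this

theorem mv_add {x' y' : G} (hg : Commute g z) (hx : x ∈ P) (hx' : x' ∈ P) (hy : y ∈ P) (hy' : y' ∈ P)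
    (e : Ev P (g * x * g⁻¹) y) (e' : Ev P (g * x' * g⁻¹) y') : Ev P (g * (x * x') * g⁻¹) (y * y') := by
  rw [← conj_mul]
  exact h.ev_mul (h.nP g hg x hx) (h.nP g hg x' hx') hy hy' e e'

theorem mv_inv (hg : Commute g z) (e : Ev P (g * x * g⁻¹) (g * y * g⁻¹)) : Ev P x y := by
  simpa [mul_assoc] using h.ev_conj hg.inv_left e

theorem ev_of_stab {T : Set G} (hg : g ∈ h.stab T) (hx : x ∈ T) (hP : x ∈ P) :
    Ev P (g * x * g⁻¹) x := by
  rcases hg.2 x hx with e | e <;> rw [e]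
  exacts [Ev.rfl, h.ev_mz hP]

end Loc

/-- the subgroup cut out by an additive function -/
def kerf {P : Subgroup G} (χ : G → ZMod 2) (hχ : ∀ x ∈ P, ∀ y ∈ P, χ (x * y) = χ x + χ y) :
    Subgroup G where
  carrier := {x | x ∈ P ∧ χ x = 0}
  one_mem' := ⟨one_mem P, by simpa using hχ 1 (one_mem P) 1 (one_mem P)⟩
  mul_mem' := fun {x y} hx hy => ⟨mul_mem hx.1 hy.1, by rw [hχ x hx.1 y hy.1, hx.2, hy.2, add_zero]⟩
  inv_mem' := fun {x} hx => ⟨inv_mem hx.1, by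
    have e := hχ x hx.1 _ (inv_mem hx.1)
    have e1 : χ 1 = 0 := by simpa using hχ 1 (one_mem P) 1 (one_mem P)
    rw [mul_inv_cancel, e1, hx.2, zero_add] at e
    exact e.symm⟩

theorem ix_kerf {P : Subgroup G} (χ : G → ZMod 2) (hχ : ∀ x ∈ P, ∀ y ∈ P, χ (x * y) = χ x + χ y) :
    Ix (kerf χ hχ) P := fun x hx y hy e e' => ⟨mul_mem hx hy, by
  rw [hχ x hx y hy, (z01 _).resolve_left fun a => e ⟨hx, a⟩, (z01 _).resolve_left fun a => e' ⟨hy, a⟩]
  rfl⟩

theorem mem_sup_invol {N : Subgroup G} {t g : G} (tt : t * t = 1) (hn : t ∈ 𝐍[N]) :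
    g ∈ N ⊔ zpowers t ↔ g ∈ N ∨ g * t ∈ N := by
  rw [mem_sup_of_le_normalizer_left (zpowers_le.2 hn)]
  constructor
  · rintro ⟨a, ha, s, hs, rfl⟩
    rcases (mem_zpowers_invol tt).1 hs with rfl | rfl
    · exact Or.inl (by simpa using ha)
    · exact Or.inr (by rwa [mul_assoc, tt, mul_one])
  · rintro (e | e)
    · exact ⟨g, e, 1, one_mem _, (mul_one g).symm⟩
    · exact ⟨_, e, t, mem_zpowers t, by rw [mul_assoc, tt, mul_one]⟩

theorem ix_sup {N P S : Subgroup G} {t : G} (tt : t * t = 1) (hn : t ∈ 𝐍[N]) (hp : t ∈ 𝐍[P])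
    (hi : Ix N P) (hS : ∀ g ∈ S, g ∈ P ∨ g * t ∈ P) : Ix (N ⊔ zpowers t) S := by
  intro x hx y hy e e'
  rw [mem_sup_invol tt hn] at e e' ⊢
  push Not at e e'
  have ti : t⁻¹ = t := inv_eq_of_mul_eq_one_right tt
  have k : ∀ {w}, w ∈ P → w ∉ N → t * w * t⁻¹ ∈ P ∧ t * w * t⁻¹ ∉ N := fun hw h1 =>
    ⟨conj_mem_of_mem_normalizer hp hw, fun a => h1 ((mem_normalizer_iff.1 hn _).2 a)⟩
  rcases hS x hx with a | a <;> rcases hS y hy with a' | a'
  · exact Or.inl (hi x a y a' e.1 e'.1)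
  · exact Or.inr (mul_assoc x y t ▸ hi x a _ a' e.1 e'.2)
  · have := hi _ a _ (k a' e'.1).1 e.2 (k a' e'.1).2
    rw [ti, ← mul_assoc, ← mul_assoc, mul_assoc x, tt, mul_one] at this
    exact Or.inr this
  · have := hi _ a _ (k a' e'.2).1 e.2 (k a' e'.2).2
    rw [show x * t * (t * (y * t) * t⁻¹) = x * (t * t) * y by group, tt, mul_one] at this
    exact Or.inl this

variable [Finite G]

theorem Loc.exists_fix {z b : G} {P S : Subgroup G} (h : Loc z b P) (hS : IsPGroup 2 S) (PS : P ≤ S)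
    (SC : S ≤ centralizer {z}) (hn : ¬ P ≤ zpowers b) :
    ∃ u ∈ P, u ∉ zpowers b ∧ ∀ g ∈ S, Ev P (g * u * g⁻¹) u := by
  have := hS.isNilpotent
  have : (P.subgroupOf S).Normal := normal_subgroupOf' (le_normalizer_iff.2 fun g hg x hx =>
    h.nP g (mem_cent.1 (SC hg)) x hx)
  obtain ⟨u, h1, h2, h3⟩ := Grp.PChain.exists_central_mod (P.subgroupOf S) ((zpowers b).subgroupOf S)
    fun e => hn fun x hx => e (show (⟨x, PS hx⟩ : S) ∈ P.subgroupOf S from hx)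
  refine ⟨u, h1, h2, fun g hg => Ev.symm ?_⟩
  have h4 : (u : G) * g * (u : G)⁻¹ * g⁻¹ ∈ zpowers b := h3 ⟨g, hg⟩
  have h5 := h.nP g (mem_cent.1 (SC hg)) u h1
  have := h.ev_mul (h.AP h4) h5 (one_mem P) h5 ((h.ev_one (h.AP h4)).2 h4) Ev.rfl
  simpa [mul_assoc] using this

theorem Top.faith {z b g : G} (h : Top z b (PP z)) (hg : Commute g z)
    (e : ∀ x ∈ PP z, Ev (PP z) (g * x * g⁻¹) x) : g ∈ PP z := by
  refine le_PP (isPGroup_iff.2 fun k hk => ?_) (h.stab_le (PP z)) (h.norm_stab h.nP)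
    ⟨hg, fun x hx => h.eq_of_ev_conj hg hx (e x hx)⟩
  obtain ⟨n, hn⟩ := isPGroup_iff.1 h.pgrp _ (h.ch ⟨mem_cent.2 (hk.1.mul_left hk.1),
    fun x hx => (h.sq_stab hk hx).symm⟩)
  exact ⟨n + 1, by rw [pow_succ', pow_mul, pow_two, hn]⟩

theorem case_two {z b t : G} {P : Subgroup G} (h : Top z b P) (hG : ⁅(⊤ : Subgroup G), (⊤ : Subgroup G)⁆ = ⊤)
    (hB : P = PP z ∨ Big z b P) (hno : ∀ s, IsConj z s → Commute s b → s = z) (hD : IsConj z t)
    (tz : Commute t z) (hne : t ≠ z) : P ≤ zpowers b := by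
  obtain ⟨g₀, hg₀⟩ := isConj_iff.1 hD
  obtain ⟨c, hc⟩ : ∃ c, c = g₀ * b * g₀⁻¹ := ⟨_, rfl⟩
  have h' : Loc t c cj(g₀, P) := hg₀ ▸ hc ▸ h.toLoc.conj g₀
  have ic : ∀ s, IsConj z s → Commute s t → s ≠ t → s * c * s⁻¹ = c * t := fun s h1 h2 h3 =>
    (h'.nb s h2).resolve_left fun e => h3 (by
      rw [← hg₀, ← hno _ (isConj_conj h1 g₀⁻¹) (by
        simpa [hc, mul_assoc] using (of_conj_eq e).conj g₀⁻¹)]; group)
  have zc : ¬ Commute z c := fun e =>
    h'.ne_mz c ((ic z (IsConj.refl z) tz.symm hne.symm).symm.trans (conj_eq e))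
  have tb : t * b * t⁻¹ = b * z := (h.nb t tz).resolve_left fun e => hne (hno t hD (of_conj_eq e))
  have bt : b * t * b⁻¹ = t * z := by
    rw [show b * t * b⁻¹ = b * (t * b * t⁻¹)⁻¹ * t by group, tb, ← h.bi, inv_inv, h.bb, tz.eq]
  have X2 : ∀ x ∈ P, Commute x t → x * x = 1 := fun x hx e =>
    (h.sq x hx).resolve_right fun a => zc (a ▸ h'.sq_cb e)
  have key : ∀ x ∈ P, Commute x t → IsConj z (t * x) → x ∈ zpowers b := fun x hx e hx' => by
    by_contra hn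
    have e1 := ic _ hx' ((Commute.refl t).mul_left e) fun a => hn (mul_eq_left.1 a ▸ one_mem _)
    have e2 := isConj_conj hx' b
    rw [← conj_mul, bt, conj_eq (h.cb x hx).symm, tz.eq, mul_assoc] at e2
    have e3 := ic _ e2 (tz.symm.mul_left ((Commute.refl t).mul_left e)) fun a => hn (by
      rw [← mul_assoc, ← tz.eq, mul_assoc, mul_eq_left, mul_eq_one_iff_inv_eq, h.zi] at a
      exact a ▸ h.zA)
    rw [show z * (t * x) * c * (z * (t * x))⁻¹ = z * (t * x * c * (t * x)⁻¹) * z⁻¹ by group, e1] at e3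
    exact zc (by simpa using (of_conj_eq e3).mul_right tz.symm.inv_right)
  have tP := h.nP t tz
  have m1 : ∀ y, t * (t * y * t⁻¹ * y⁻¹) = y * t * y⁻¹ := fun y => by
    rw [h'.zi, ← mul_assoc, ← mul_assoc, ← mul_assoc, h'.zz, one_mul]
  have m2 : ∀ y, t * (t * y * t⁻¹ * y⁻¹) * t⁻¹ = (t * y * t⁻¹ * y⁻¹)⁻¹ := fun y => by
    rw [m1, h'.zi]; simp [h'.zi, mul_assoc]
  have m3 : ∀ y ∈ P, t * y * t⁻¹ * y⁻¹ ∈ zpowers b → Ev P (t * y * t⁻¹) y := fun y hy e => by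
    have := h.ev_mul (h.AP e) hy (one_mem P) hy ((h.ev_one (h.AP e)).2 e) Ev.rfl
    simpa using this
  have m4 : ∀ y ∈ P, ¬ Ev P (t * y * t⁻¹) y → qf (t * y * t⁻¹ * y⁻¹) = 1 := fun y hy e =>
    (z01 _).resolve_left fun a => e (m3 y hy (key _ (mul_mem (tP y hy) (inv_mem hy))
      (of_conj_eq ((m2 y).trans (inv_eq_of_mul_eq_one_right (qf0.1 a)))).symm
      (m1 y ▸ isConj_conj hD y)))
  have F1 : ∀ y ∈ P, Ev P (t * y * t⁻¹) y → ∃ x ∈ P, Commute x t ∧ Ev P x y := fun y hy e => by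
    rcases h.eq_of_ev_conj tz hy e with a | a
    · exact ⟨y, hy, (of_conj_eq a).symm, Ev.rfl⟩
    · refine ⟨_, mul_mem hy h.bP, (of_conj_eq ?_).symm, h.ev_mb hy⟩
      rw [← conj_mul, a, tb, mul_assoc, ← mul_assoc z, ← h.bz.eq, h.mzz]
  have F2 : ∀ y ∈ P, Ev P (t * y * t⁻¹) y → ∀ y' ∈ P, Ev P (t * y' * t⁻¹) y' → Commute y y' := by
    intro y hy e y' hy' e'
    obtain ⟨x, hx, a1, a2⟩ := F1 y hy e
    obtain ⟨x', hx', a3, a4⟩ := F1 y' hy' e'
    have := h.qf_mul hx hx'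
    rw [qf0.2 (X2 x hx a1), qf0.2 (X2 x' hx' a3), qf0.2 (X2 _ (mul_mem hx hx') (a1.mul_left a3)),
      a4 x hx, fm_comm, a2 y' hy'] at this
    exact (fm0.1 (by simpa using this.symm)).symm
  by_contra hn
  obtain ⟨y₀, hy₀, h0⟩ : ∃ y ∈ P, ¬ Ev P (t * y * t⁻¹) y := by
    by_contra! a
    exact hn fun x hx => h.ctr x hx fun y hy => F2 y hy (a y hy) x hx (a x hx)
  rcases hB with rfl | ⟨β, b1, b2, b3⟩
  swap
  · have a1 := b3 t tz
    obtain ⟨a, ha⟩ : ∃ a, a = t * β * t⁻¹ * β⁻¹ := ⟨_, rfl⟩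
    obtain ⟨m, hm⟩ : ∃ m, m = t * y₀ * t⁻¹ * y₀⁻¹ := ⟨_, rfl⟩
    have mP : m ∈ P := hm ▸ mul_mem (tP _ hy₀) (inv_mem hy₀)
    have a6 := m2 β
    rw [← ha] at a1 a6
    have a2 : a * a = z := by
      have : a * β * (a * β) = b * z := by rw [ha, inv_mul_cancel_right, conj_mul, b1, tb]
      rw [← pow_two, (b2 a (h.AP a1)).mul_pow, pow_two, pow_two, b1, h.bz.eq] at this
      exact mul_right_cancel this
    have c := h.cA (h.cb m mP) a1
    have a3 : m * a * (m * a) = 1 := by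
      rw [← pow_two, c.mul_pow, pow_two, pow_two, a2, (h.qf1 mP).1 (hm ▸ m4 _ hy₀ h0), h.zz]
    have a4 := key _ (mul_mem mP (h.AP a1)) (of_conj_eq (by
      rw [← conj_mul, a6, hm, m2, ← hm, ← mul_inv_rev, ← c.eq, inv_eq_of_mul_eq_one_right a3])).symm (by
      have := isConj_conj (isConj_conj hD β) y₀
      rwa [← m1 β, ← ha, ← conj_mul, conj_eq (h.cA (h.cb _ hy₀) a1), ← m1, ← hm, mul_assoc] at this)
    exact h0 (m3 _ hy₀ (hm ▸ (mul_mem_cancel_right a1).1 a4))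
  have l1 : ∀ y ∈ PP z, Ev (PP z) (t * y * t⁻¹) y ↔ fm (t * y * t⁻¹) y = 0 := fun y hy =>
    ⟨fun e => by rw [fm_comm, e y hy, fm_self], fun e => by_contra fun a => by
      have := m4 y hy a
      rw [h.qf_mul (tP y hy) (inv_mem hy), qf_conj, qf_inv, fm_inv, e] at this
      simp [CharTwo.add_self_eq_zero] at this⟩
  have l2 : ∀ y ∈ PP z, ∀ y' ∈ PP z, ¬ Ev (PP z) (t * y * t⁻¹) y → ¬ Ev (PP z) (t * y' * t⁻¹) y' →
      Ev (PP z) (t * (y * y') * t⁻¹) (y * y') := fun y hy y' hy' e e' => by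
    rw [l1 _ hy] at e
    rw [l1 _ hy'] at e'
    have : fm (t * y * t⁻¹) y' = fm (t * y' * t⁻¹) y := by rw [fm_conj', fm_comm, h'.zi]
    rw [l1 _ (mul_mem hy hy'), ← conj_mul, h.fm_mul' (tP y hy) (tP y' hy') (mul_mem hy hy'),
      h.fm_mul (tP y hy) hy hy', h.fm_mul (tP y' hy') hy hy', (z01 _).resolve_left e,
      (z01 _).resolve_left e', this]
    generalize fm (t * y' * t⁻¹) y = p
    revert p; decide
  obtain ⟨i, hi, i1, i2⟩ : ∃ i ∈ PP z, ¬ Ev (PP z) (t * i * t⁻¹) i ∧ qf i = 1 := by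
    rcases z01 (qf y₀) with a | a
    · refine ⟨_, mul_mem hy₀ h.bP, fun e => h0 (((h.ev_conj tz (h.ev_mb hy₀)).symm.trans e).trans
        (h.ev_mb hy₀)), ?_⟩
      rw [h.qf_mul hy₀ h.bP, a, h.qf_b, h.fm_b hy₀]; rfl
    · exact ⟨_, hy₀, h0, a⟩
  obtain ⟨j, hj⟩ : ∃ j, j = t * i * t⁻¹ := ⟨_, rfl⟩
  have jP : j ∈ PP z := hj ▸ tP i hi
  have tj : t * j * t⁻¹ = i := by
    rw [hj, show t * (t * i * t⁻¹) * t⁻¹ = t * t * i * (t * t)⁻¹ by group, h'.zz]; simp
  have ji : fm j i = 1 := (z01 _).resolve_left fun a => i1 ((l1 i hi).2 (hj ▸ a))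
  have ij : fm i j = 1 := fm_comm j i ▸ ji
  have j2 : qf j = 1 := by rw [hj, qf_conj, i2]
  have kP := mul_mem hi jP
  have k1 : Ev (PP z) (t * (i * j) * t⁻¹) (i * j) :=
    l2 i hi j jP i1 fun e => by have := e i hi; rw [tj, fm_self, ij] at this; exact zero_ne_one this
  have c1 : ∀ y ∈ PP z, Ev (PP z) (t * y * t⁻¹) y → Ev (PP z) y 1 ∨ Ev (PP z) y (i * j) :=
    fun y hy e => h.dual1 kP hy fun x hx c => F2 x hx (by_contra fun a => by
      have := fm0.2 (F2 _ (mul_mem hx hi) (l2 x hx i hi a i1) _ kP k1)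
      rw [h.fm_mul' hx hi kP, fm0.2 c, h.fm_mul hi hi jP, fm_self, ij] at this
      simp at this) y hy e
  have cl : ∀ y ∈ PP z, ∀ v ∈ PP z, fm v y = fm i y * fm v j + fm j y * fm v i := by
    intro y hy v hv
    by_cases e : Ev (PP z) (t * y * t⁻¹) y
    · rcases c1 y hy e with e | e <;> rw [e v hv, e i hi, e j jP] <;>
        simp [fm_one, fm_self, h.fm_mul, hv, hi, jP, ij, ji, add_comm]
    · have e1 : ∀ w ∈ PP z, fm w y = fm w (y * i) + fm w i := fun w hw => by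
        rw [h.fm_mul hw hy hi, add_assoc, CharTwo.add_self_eq_zero, add_zero]
      rw [e1 v hv, e1 i hi, e1 j jP]
      rcases c1 _ (mul_mem hy hi) (l2 y hy i hi e i1) with e | e <;> rw [e v hv, e i hi, e j jP] <;>
        simp only [fm_one, fm_self, h.fm_mul, hv, hi, jP, ij, ji] <;> grind
  obtain ⟨S, hS, tS⟩ := exists_isSyl_ge (p := 2) (isPGroup_zpowers ⟨1, by simpa [pow_two] using h'.zz⟩)
    (zpowers_le.2 (mem_cent.2 tz))
  have tS := tS (mem_zpowers t)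
  have SC : ∀ g ∈ S, Commute g z := fun g hg => mem_cent.1 (hS.le hg)
  obtain ⟨u, u1, u2, u3⟩ := h.exists_fix hS.pgrp hS.pCoreOf_le hS.le hn
  have u4 := (c1 u u1 (u3 t tS)).resolve_left fun e => u2 ((h.ev_one u1).1 e)
  have fk : ∀ g ∈ S, Ev (PP z) (g * (i * j) * g⁻¹) (i * j) := fun g hg =>
    ((h.ev_conj (SC g hg) u4).symm.trans (u3 g hg)).trans u4
  have ik : Ev (PP z) (i * (i * j)) j := fun v hv => by
    rw [h.fm_mul hv hi kP, h.fm_mul hv hi jP, ← add_assoc, CharTwo.add_self_eq_zero, zero_add]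
  have jk : Ev (PP z) (j * (i * j)) i := fun v hv => by
    rw [h.fm_mul hv jP kP, h.fm_mul hv hi jP, add_left_comm, CharTwo.add_self_eq_zero, add_zero]
  have fa : ∀ g ∈ S, Ev (PP z) (g * i * g⁻¹) i → g ∈ PP z := fun g hg e =>
    h.faith (SC g hg) fun x hx v hv => by
      have e' := ((h.ev_conj (SC g hg) ik).symm.trans
        (h.mv_add (SC g hg) hi kP hi kP e (fk g hg))).trans ik
      have := h.nP g (SC g hg) x hx
      rw [cl _ this v hv, cl x hx v hv, fm_comm i, fm_comm j, ← e _ this, ← e' _ this, fm_conj, fm_conj,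
        fm_comm x, fm_comm x]
  have hS2 : ∀ g ∈ S, g ∈ PP z ∨ g * t ∈ PP z := fun g hg => by
    have a := h.nP g (SC g hg) i hi
    have a1 := fk g hg _ a
    rw [fm_conj, h.fm_mul hi hi jP, fm_self, ij, h.fm_mul a hi jP, fm_comm _ i, fm_comm _ j] at a1
    rcases z01 (fm i (g * i * g⁻¹)) with e | e
    · refine Or.inl (fa g hg fun v hv => ?_)
      rw [e, zero_add, zero_add] at a1
      rw [cl _ a v hv, e, ← a1]; simp
    · refine Or.inr (fa _ (mul_mem hg tS) (h.mv_mul (SC g hg) (hj ▸ Ev.rfl) (((h.ev_conj (SC g hg)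
        ik).symm.trans (h.mv_add (SC g hg) hi kP jP kP (fun v hv => ?_) (fk g hg))).trans jk)))
      rw [e, zero_add, left_eq_add] at a1
      rw [cl _ a v hv, e, a1]; simp
  have ad : ∀ x ∈ PP z, ∀ y ∈ PP z, qf (x * y) + fm i (x * y) + fm j (x * y) +
      fm i (x * y) * fm j (x * y) = (qf x + fm i x + fm j x + fm i x * fm j x) +
      (qf y + fm i y + fm j y + fm i y * fm j y) := fun x hx y hy => by
    rw [h.qf_mul hx hy, h.fm_mul hi hx hy, h.fm_mul jP hx hy, cl y hy x hx, fm_comm x, fm_comm x]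
    grind
  have tn : t ∈ 𝐍[kerf (fun y => qf y + fm i y + fm j y + fm i y * fm j y) ad] :=
    mem_normalizer_of_cj_le (cj_le_iff_forall.2 fun x hx => ⟨tP x hx.1, by
      have e := hx.2
      have e1 : fm i (t * x * t⁻¹) = fm j x := by rw [← tj, fm_conj]
      have e2 : fm j (t * x * t⁻¹) = fm i x := by rw [hj, fm_conj]
      simp only at e ⊢
      rw [e1, e2, qf_conj, ← e]; ring⟩)
  have x2 : i * j * b * (i * j * b) = 1 := qf0.1 (by
    rw [h.qf_mul kP h.bP, h.qf_mul hi jP, i2, j2, ij, h.qf_b, h.fm_b kP]; rfl)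
  have xA : i * j * b ∉ zpowers b := fun e => by
    have := (h.ev_one (mul_mem kP h.bP)).2 e i hi
    rw [h.ev_mb kP i hi, h.fm_mul hi hi jP, fm_self, ij, fm_one] at this
    simp at this
  obtain ⟨g, -, hg⟩ := thompson hG (h.syl hS) (sup_le (fun x hx => hS.pCoreOf_le (show x ∈ PP z ∧ _ from hx).1)
    (zpowers_le.2 tS)) (ix_sup h'.zz tn (mem_normalizer_of_cj_le (cj_le_iff_forall.2 tP))
    (ix_kerf _ ad) hS2) (mem_top _) x2
  have g2 : g * (i * j * b) * g⁻¹ * (g * (i * j * b) * g⁻¹) = 1 := by rw [conj_mul, x2]; simp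
  have g1 : g * (i * j * b) * g⁻¹ ≠ 1 := fun e => xA (by simpa using conj_eq_one_iff.1 e ▸ one_mem _)
  suffices IsConj z (g * (i * j * b) * g⁻¹) from xA (hno _ (this.trans (isConj_iff.2 ⟨g⁻¹, by group⟩))
    (h.cb _ (mul_mem kP h.bP)) ▸ h.zA)
  generalize g * (i * j * b) * g⁻¹ = w at hg g1 g2
  rcases (mem_sup_invol h'.zz tn).1 hg with ⟨a, e⟩ | ⟨a, e⟩
  · simp only [qf0.2 g2] at e
    have : Ev (PP z) w 1 := fun v hv => by
      rw [cl w a v hv, fm_one]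
      revert e
      generalize fm i w = p, fm j w = q, fm v i = r, fm v j = s
      revert p q r s
      decide
    rw [(h.invol ((h.ev_one a).1 this) g2).resolve_left g1]
  have e1 : t * (w * t) * t⁻¹ = (w * t)⁻¹ := by
    rw [mul_inv_rev, h'.zi, inv_eq_of_mul_eq_one_right g2, mul_assoc, mul_assoc, h'.zz, mul_one]
  have e2 : w = w * t * t := (h'.mzz w).symm
  generalize w * t = y at a e e1 e2
  have tzD : ∀ y ∈ PP z, IsConj z (y * t) → IsConj z (y * z * t) := fun y hy e => by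
    have := isConj_conj e b
    rwa [← conj_mul, bt, conj_eq (h.cb y hy).symm, tz.eq, ← mul_assoc] at this
  rw [e2]
  simp only at e
  rcases c1 y a (fun v _ => by rw [e1, fm_inv]) with e3 | e3
  · rw [e3 i hi, e3 j jP, fm_one, fm_one] at e
    rcases h.invol ((h.ev_one a).1 e3) (qf0.1 (by simpa using e)) with rfl | rfl
    · simpa using hD
    · simpa using tzD 1 (one_mem _) (by simpa using hD)
  · have kD : IsConj z (i * j * z * t) := by
      have := isConj_conj hD i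
      rwa [show i * t * i⁻¹ = i * (t * i * t⁻¹)⁻¹ * t by group, ← hj,
        inv_eq_of_mul_eq_one_right (show j * (j * z) = 1 by
          rw [← mul_assoc, (h.qf1 jP).1 j2, h.zz]), ← mul_assoc] at this
    rw [e3 i hi, e3 j jP, h.fm_mul hi hi jP, h.fm_mul jP hi jP, fm_self, fm_self, ij, ji] at e
    rcases h.eq_of_ev' kP a e3.symm (by
      rw [h.qf_mul hi jP, i2, j2, ij]
      revert e; generalize qf y = p; revert p; decide) with rfl | rfl
    · simpa [h.mzz] using tzD _ (mul_mem kP h.zP) kD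
    · exact kD

end Cfsg.Agent.SymT
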