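import Mathlib
import Cfsg.Agent.SymT.Two

/-! The case in which another conjugate of `z` centralizes `b`: points, lines and their roots. -/

set_option autoImplicit false
set_option linter.unusedSectionVars false

namespace Cfsg.Agent.SymT

open Subgroup Cfsg Cfsg.Agent.PLocal Cfsg.Agent.PLocal.Amb Cfsg.Agent.TT
open Cfsg.Agent.PLocal.CP (IsCharP)

variable {G : Type*} [Group G] [Finite G]

theorem not_big {z b g : G} {P : Subgroup G} (h : Top z b P) (hB : Big z b P)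
    (hc : Commute (g * z * g⁻¹) b) (hne : g * z * g⁻¹ ≠ z) : False := by
  obtain ⟨β, b1, b2, b3⟩ := hB
  have L1 : ∀ g, Commute (g * z * g⁻¹) b → g * z * g⁻¹ ≠ z → Commute (g * β * g⁻¹) β := by
    intro g hc hne
    have c1 := b2 _ (h.memP (h.toLoc.conj g) hc)
    have c2 := b2 _ (h.memP (h.toLoc.conj g⁻¹) (by
      simpa [mul_assoc] using (h.comm_z (h.alpha (h.toLoc.conj g) hc hne)).symm.conj g⁻¹))
    have c3 := b3 (g * β * g⁻¹) (by simpa [mul_assoc] using c2.symm.conj g)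
    obtain ⟨n, hn⟩ := b3 (g⁻¹ * β * g) (by simpa [mul_assoc] using c1.symm.conj g⁻¹)
    refine commutatorElement_eq_one_iff_commute.1 (by_contra fun e =>
      hne (h.inter (h.toLoc.conj g) c3 ⟨-n, ?_⟩ e))
    simp only [conj_zpow, zpow_neg] at hn ⊢
    rw [hn]; group
  have tP := h.memP (h.toLoc.conj g) hc
  have h' := h.toLoc.conj g
  obtain ⟨x, hx, e⟩ := h.exists_nc tP (h.notA h'.zz h'.z1 hne)
  have e1 := h.conj1 hx tP e
  have c1 := h.alpha h' hc hne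
  have c2 := (L1 (g⁻¹ * x * g) (by
    rw [show g⁻¹ * x * g * z * (g⁻¹ * x * g)⁻¹ = g⁻¹ * (x * (g * z * g⁻¹) * x⁻¹) * g⁻¹⁻¹ by group, e1]
    simpa [mul_assoc] using (h'.bz.symm.mul_left (h.comm_z c1).symm).conj g⁻¹) fun a => h.ne_mz _ (by
      rw [← e1]; nth_rewrite 2 [← a]; group)).conj g
  have c3 : Commute (g * β * g⁻¹) z := h.comm_z (b1 ▸ (L1 g hc hne).mul_right (L1 g hc hne))
  have b4 : β ^ 4 = z := by rw [← h.bb, ← b1]; simp [pow_succ, mul_assoc]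
  obtain ⟨k, hk⟩ : ∃ k, k = g * β * g⁻¹ := ⟨_, rfl⟩
  have k4 : k ^ 4 = g * z * g⁻¹ := by rw [hk, conj_pow, b4]
  rw [show g * (g⁻¹ * x * g * β * (g⁻¹ * x * g)⁻¹) * g⁻¹ = x * (g * β * g⁻¹) * x⁻¹ by group] at c2
  rw [← hk] at c2 c3
  have v1 := mul_mem hx (h.nP k c3 _ (inv_mem hx))
  have v2 : (x * (k * x⁻¹ * k⁻¹)) ^ 4 = z := by
    rw [show x * (k * x⁻¹ * k⁻¹) = x * k * x⁻¹ * k⁻¹ by group, c2.inv_right.mul_pow, conj_pow, inv_pow,
      k4, e1, (h.cz tP).eq, mul_inv_cancel_right]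
  rw [show 4 = 2 * 2 from rfl, pow_mul, pow_two, pow_two] at v2
  rcases h.sq _ v1 with a | a <;> rw [a] at v2
  · exact h.z1 (by rw [← v2, one_mul])
  · exact h.z1 (by rw [← v2, h.zz])

/-- A point `t` of the class of `z₀` with a root `c`. -/
structure Pt (z₀ t c : G) : Prop extends Top t c (PP t) where
  cls : IsConj z₀ t

/-- The points collinear with `z`. -/
def TT (z₀ z : G) : Set G := {t | IsConj z₀ t ∧ t ∈ PP z ∧ t ≠ z}

variable {z₀ : G}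

namespace Pt

variable {z b : G} (h : Pt z₀ z b) {s t c d x y g : G}
include h

theorem conj (g : G) : Pt z₀ (g * z * g⁻¹) (g * b * g⁻¹) :=
  ⟨PP_conj g z ▸ h.toTop.conj g, isConj_conj h.cls g⟩

theorem root (hs : IsConj z₀ s) : ∃ d, Pt z₀ s d := by
  obtain ⟨g, rfl⟩ := isConj_iff.1 (h.cls.symm.trans hs)
  exact ⟨_, h.conj g⟩

theorem sq1 (hs : IsConj z₀ s) : s * s = 1 := (h.root hs).elim fun _ e => e.zz

theorem ne1 (hs : IsConj z₀ s) : s ≠ 1 := (h.root hs).elim fun _ e => e.z1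

theorem mem (hs : IsConj z₀ s) (e : Commute s b) : s ∈ PP z :=
  (h.root hs).elim fun _ h' => h.memP h'.toLoc e

theorem comm (h' : Pt z₀ t c) (e : Commute t b) : Commute c b := by
  by_cases a : t = z
  · subst a
    exact h.cb c h'.bP
  · exact h.alpha h'.toLoc e a

theorem nA (ht : t ∈ TT z₀ z) : t ∉ zpowers b := h.notA (h.sq1 ht.1) (h.ne1 ht.1) ht.2.2

theorem mz (ht : t ∈ TT z₀ z) : t * z ∈ TT z₀ z := by
  obtain ⟨x, hx, e⟩ := h.exists_nc ht.2.1 (h.nA ht)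
  exact ⟨h.conj1 hx ht.2.1 e ▸ isConj_conj ht.1 x, mul_mem ht.2.1 h.zP, by simpa using h.ne1 ht.1⟩

theorem cT (hg : Commute g z) (ht : t ∈ TT z₀ z) : g * t * g⁻¹ ∈ TT z₀ z :=
  ⟨isConj_conj ht.1 g, h.nP g hg t ht.2.1, fun e => ht.2.2 (by
    rw [← conj_eq hg.inv_left, ← e]; group)⟩

theorem eqT (hs : s ∈ TT z₀ z) (ht : t ∈ TT z₀ z) (e : Ev (PP z) s t) : t = s ∨ t = s * z :=
  h.eq_of_ev hs.2.1 ht.2.1 e (by rw [h.sq1 hs.1, h.sq1 ht.1])

theorem nP' (h' : Pt z₀ t c) (hne : t ≠ z) : c ∉ PP z := fun e =>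
  (h.sq c e).elim (fun a => h'.z1 (h'.bb.symm.trans a)) fun a => hne (h'.bb.symm.trans a)

theorem comm_of_pgrp {T : Subgroup G} (hT : IsPGroup 2 T) (h' : Pt z₀ t c) (hb : b ∈ T) (hc : c ∈ T) :
    Commute c b := by
  have m : ∀ x y : T, y ∈ zpowers x ↔ (y : G) ∈ zpowers (x : G) := fun x y => by
    rw [← mem_map_subtype, MonoidHom.map_zpowers]; rfl
  have o : ∀ (x : T) (t : G), Pt z₀ t x → Nat.card (zpowers x) = 4 := fun x t e => by
    rw [Nat.card_zpowers, ← e.ob, orderOf_coe]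
  have eq : ∀ (x y : T) (t : G), Pt z₀ t x → Pt z₀ t y → zpowers x = zpowers y := by
    have : ∀ (x y : T) (t : G), Pt z₀ t x → Pt z₀ t y → zpowers x ≤ zpowers y := fun x y t e e' =>
      zpowers_le.2 ((m _ _).2 (e'.ctr _ e.bP e.cb))
    exact fun x y t e e' => le_antisymm (this x y t e e') (this y x t e' e)
  by_cases a : t = z
  · exact h.comm h' (a ▸ h.bz.symm)
  have := S1782.result hT {R | ∃ (x : T) (t : G), Pt z₀ t x ∧ R = zpowers x} ?_ ?_ ?_ ?_ _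
    ⟨⟨c, hc⟩, t, h', rfl⟩ _ ⟨⟨b, hb⟩, z, h, rfl⟩ fun e =>
      a (h.inter h'.toLoc ((m ⟨b, hb⟩ ⟨c, hc⟩).1 (e ▸ mem_zpowers _)) (mem_zpowers c) fun e =>
        h'.z1 (by rw [← h'.bb, show c = 1 from e, one_mul]))
  · exact (congrArg Subtype.val (commutator_eq_bot_iff_le_centralizer.1 this (mem_zpowers _) _
      (mem_zpowers _))).symm
  · rintro g _ ⟨x, t, e, rfl⟩
    exact ⟨g * x * g⁻¹, _, e.conj g, MonoidHom.map_zpowers _ _⟩
  · rintro _ ⟨x, t, e, rfl⟩ a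
    have := Grp.PFrattini.pow_mem_frattini (hT.to_subgroup (zpowers x)) ⟨x, mem_zpowers x⟩
    rw [a, mem_bot] at this
    exact e.z1 (by rw [← e.bb, ← pow_two]; exact congrArg (fun y => (y.1.1 : G)) this)
  · rintro _ ⟨x, t, e, rfl⟩ _ ⟨y, s, e', rfl⟩
    rw [o x t e, o y s e']
  · rintro _ ⟨x, t, e, rfl⟩ _ ⟨y, s, e', rfl⟩
    refine or_iff_not_imp_right.2 fun hn => ?_
    obtain ⟨⟨w, h1, h2⟩, h3⟩ := ne_bot_iff_exists_ne_one.1 hn
    obtain rfl := e.inter e'.toLoc ((m _ _).1 h1) ((m _ _).1 h2) fun e => h3 (Subtype.ext (Subtype.ext e))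
    exact eq x y _ e e'

theorem fixT (h' : Pt z₀ t c) (ht : t ∈ TT z₀ z) (hs : s ∈ TT z₀ z) (e : Ev (PP z) (c * s * c⁻¹) s) :
    Commute s c := by
  have cz := h.comm_z (h.comm h' (h.cb t ht.2.1))
  rcases h.eq_of_ev_conj cz hs.2.1 e with a | a
  · exact (of_conj_eq a).symm
  have c1 : Commute s t := h'.bb ▸ (h.sq_stab (T := {s}) ⟨cz, by simp [a]⟩ rfl).symm
  refine of_conj_eq ((h'.nb s c1).resolve_right fun a' => ht.2.2 ?_)
  rw [mul_inv_eq_iff_eq_mul, mul_assoc s z, ← cz.eq, ← mul_assoc, mul_inv_eq_iff_eq_mul.1 a',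
    mul_assoc c t, ← c1.eq, ← mul_assoc, mul_assoc (c * s), left_eq_mul] at a
  rw [← h.zi]
  exact eq_inv_of_mul_eq_one_left a

theorem orth (ht : t ∈ TT z₀ z) (hs : s ∈ TT z₀ z) (e : Commute s t) (hne : s ≠ t) :
    IsConj z₀ (s * t) := by
  obtain ⟨c, h'⟩ := h.root ht.1
  rcases h'.nb s e with a | a
  · exact (h'.mz ⟨hs.1, h'.mem hs.1 (of_conj_eq a), hne⟩).1
  · have := isConj_conj hs.1 c
    rwa [show c * s * c⁻¹ = c * (s * c * s⁻¹)⁻¹ * s by group, a, ← h'.bi, inv_inv, h'.bb, ← e.eq] at this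

theorem trans0 (ht : t ∈ TT z₀ z) (hs : s ∈ TT z₀ z) (hc : Pt z₀ t c) (sc : Commute s c) :
    ∃ g, Commute g z ∧ g * t * g⁻¹ = s := by
  by_cases e : s = t
  · exact ⟨1, Commute.one_left z, by simp [e]⟩
  have st : Commute s t := hc.comm_z sc
  obtain ⟨f, hf⟩ := h.root (h.orth ht hs st e)
  have tP := hf.mem ht.1 (hc.comm_z (hc.comm hf (sc.mul_left hc.bz.symm))).symm
  have zP := hf.mem h.cls (h.comm_z (h.comm hf (h.cb _ (mul_mem hs.2.1 ht.2.1)))).symm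
  have e1 : t * (s * t) = s := by rw [← mul_assoc, ← st.eq, hc.mzz]
  obtain ⟨x, hx, h1, h2⟩ : ∃ x ∈ PP (s * t), Commute x z ∧ ¬ Commute x t := by
    by_contra! a
    rcases hf.dual1 zP tP a with a | a
    · exact hf.notA hc.zz hc.z1 (by simpa using h.ne1 hs.1) ((hf.ev_one tP).1 a)
    · exact (hf.eq_of_ev tP zP a (by rw [hc.zz, h.zz])).elim (fun a => ht.2.2 a.symm)
        fun a => hs.2.2 (e1 ▸ a.symm)
  exact ⟨x, h1, (hf.conj1 hx tP h2).trans e1⟩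

theorem trans (ht : t ∈ TT z₀ z) (hs : s ∈ TT z₀ z) : ∃ g, Commute g z ∧ g * t * g⁻¹ = s := by
  obtain ⟨c, hc⟩ := h.root ht.1
  obtain ⟨d, hd⟩ := h.root hs.1
  obtain ⟨S, hS, dS⟩ := exists_isSyl_ge (p := 2) (isPGroup_zpowers ⟨2, hd.b4⟩)
    (zpowers_le.2 (mem_cent.2 (h.comm_z (h.comm hd (h.cb s hs.2.1)))))
  obtain ⟨g, hg, cS⟩ := hS.exists_cj_le (isPGroup_zpowers ⟨2, hc.b4⟩)
    (zpowers_le.2 (mem_cent.2 (h.comm_z (h.comm hc (h.cb t ht.2.1)))))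
  have hg := mem_cent.1 hg
  obtain ⟨k, h1, h2⟩ := h.trans0 (h.cT hg ht) hs (hc.conj g) (hd.comm_z (hd.comm_of_pgrp hS.pgrp
    (hc.conj g) (dS (mem_zpowers d)) (cS (conj_mem_cj g (mem_zpowers c))))).symm
  exact ⟨k * g, h1.mul_left hg, by rw [← h2]; group⟩

/-- The pointwise stabilizer of the lines on `z`. -/
abbrev KK : Subgroup G := h.stab (TT z₀ z)

theorem memK (hg : Commute g z) (e : ∀ u ∈ TT z₀ z, Ev (PP z) (g * u * g⁻¹) u) : g ∈ h.KK :=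
  ⟨hg, fun u hu => h.eq_of_ev_conj hg hu.2.1 (e u hu)⟩

theorem ko (ht : t ∈ TT z₀ z) (hg : g ∈ h.KK)
    (e : g ∈ pCoreOf 2 (centralizer {z} ⊓ centralizer {t})) : g ∈ PP z := by
  have n : h.KK ≤ 𝐍[centralizer {z} ⊓ centralizer {t}] := le_normalizer_iff.2 fun k hk x hx => by
    have h1 := mem_cent.1 hx.1
    have h2 := mem_cent.1 hx.2
    refine ⟨mem_cent.2 ((hk.1.mul_left h1).mul_left hk.1.inv_left), mem_cent.2 ?_⟩
    have : Commute x (k⁻¹ * t * k⁻¹⁻¹) := by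
      rcases (inv_mem hk).2 t ht with a | a <;> rw [a]
      exacts [h2, h2.mul_right h1]
    simpa [mul_assoc] using this.conj k
  exact pCoreOf_mono_of_normal (h.stab_le _) (h.norm_stab fun _ hg _ => h.cT hg)
    (le_pCoreOf ((isPGroup_pCoreOf 2 _).to_le inf_le_right) inf_le_left (le_normalizer_inf
      le_normalizer (n.trans (normalizer_le_normalizer_pCoreOf 2 _))) ⟨hg, e⟩)

theorem memO (hx : x ∈ PP t) (e : Commute x z) :
    x ∈ pCoreOf 2 (centralizer {z} ⊓ centralizer {t}) :=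
  inf_pCoreOf_le inf_le_right ⟨⟨mem_cent.2 e, pCoreOf_le 2 _ hx⟩, hx⟩

omit h in
theorem pgrp_closure {X : Set G} (h4 : ∀ x ∈ X, x ^ 4 = 1) (hc : ∀ x ∈ X, ∀ y ∈ X, Commute x y) :
    IsPGroup 2 (closure X) := by
  have hc' : ∀ x ∈ closure X, ∀ y ∈ closure X, Commute x y := fun x hx y hy =>
    closure_induction₂ (p := fun x y _ _ => Commute x y) (fun x y a b => hc x a y b) (fun _ _ => Commute.one_left _)
      (fun _ _ => Commute.one_right _) (fun _ _ _ _ _ _ a b => a.mul_left b)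
      (fun _ _ _ _ _ _ a b => a.mul_right b) (fun _ _ _ _ a => a.inv_left)
      (fun _ _ _ _ a => a.inv_right) hx hy
  refine isPGroup_iff.2 fun x hx => ⟨2, ?_⟩
  induction hx using closure_induction with
  | mem x hx => exact h4 x hx
  | one => simp
  | mul x y hx hy h1 h2 => rw [(hc' x hx y hy).mul_pow, h1, h2, one_mul]
  | inv x _ h1 => rw [inv_pow, h1, inv_one]

omit h in
theorem mem_pCoreOf {L : Subgroup G} {X : Set G} (h4 : ∀ x ∈ X, x ^ 4 = 1)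
    (hc : ∀ x ∈ X, ∀ y ∈ X, Commute x y) (hL : ∀ x ∈ X, x ∈ L)
    (hn : ∀ g ∈ L, ∀ x ∈ X, g * x * g⁻¹ ∈ X) (hx : x ∈ X) : x ∈ pCoreOf 2 L :=
  le_pCoreOf (pgrp_closure h4 hc) ((closure_le L).2 hL) (le_normalizer_iff_cj.2 fun g hg => by
    rw [MonoidHom.map_closure, closure_le]
    rintro _ ⟨x, hx, rfl⟩
    exact subset_closure (hn g hg x hx)) (subset_closure hx)

theorem exists_noncomm (ht : t ∈ TT z₀ z) (hc : Pt z₀ t c) : ∃ s ∈ TT z₀ z, ¬ Commute s c := by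
  by_contra! a
  have cz := h.comm_z (h.comm hc (h.cb t ht.2.1))
  have k : ∀ g, Commute g z → Commute (g * c * g⁻¹) c := fun g hg => hc.comm (hc.conj g) (a _ (h.cT hg ht))
  refine h.nP' hc ht.2.2 (mem_pCoreOf (X := {x | ∃ g, Commute g z ∧ x = g * c * g⁻¹}) ?_ ?_ ?_ ?_
    ⟨1, Commute.one_left z, by simp⟩)
  · rintro _ ⟨g, -, rfl⟩
    exact (hc.conj g).b4
  · rintro _ ⟨g, hg, rfl⟩ _ ⟨g', hg', rfl⟩
    simpa [mul_assoc] using (k _ (hg'.inv_left.mul_left hg)).conj g'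
  · rintro _ ⟨g, hg, rfl⟩
    exact mem_cent.2 ((hg.mul_left cz).mul_left hg.inv_left)
  · rintro g hg _ ⟨g', hg', rfl⟩
    exact ⟨g * g', (mem_cent.1 hg).mul_left hg', by group⟩

end Pt

/-- A line `{z, t, tz}` with roots `b, c, e` of its points. -/
structure Ln (z₀ z t b c e : G) : Prop where
  pz : Pt z₀ z b
  pt : Pt z₀ t c
  pe : Pt z₀ (t * z) e
  tT : t ∈ TT z₀ z

theorem Pt.exists_ln {z b t c : G} (h : Pt z₀ z b) (h' : Pt z₀ t c) (ht : t ∈ TT z₀ z) :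
    ∃ e, Ln z₀ z t b c e :=
  (h.root (h.mz ht).1).imp fun _ e => ⟨h, h', e, ht⟩

/-- membership in the four-group `⟨z, t⟩` -/
def L4 (z t y : G) : Prop := y = 1 ∨ y = z ∨ y = t ∨ y = t * z

namespace Ln

variable {z t b c e : G} (l : Ln z₀ z t b c e) {x y s d : G}
include l

theorem tP : t ∈ PP z := l.tT.2.1

theorem tz : Commute t z := l.pz.cz l.tP

theorem cb : Commute c b := l.pz.comm l.pt (l.pz.cb t l.tP)

theorem cz : Commute c z := l.pz.comm_z l.cb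

theorem eb : Commute e b := l.pz.comm l.pe (l.pz.cb _ (mul_mem l.tP l.pz.zP))

theorem ec : Commute e c := l.pt.comm l.pe (l.pt.bz.symm.mul_left l.cz.symm)

theorem symm : Ln z₀ t z c b e :=
  ⟨l.pt, l.pz, l.tz.eq ▸ l.pe, l.pz.cls, l.pt.mem l.pz.cls l.cz.symm, l.tT.2.2.symm⟩

theorem rot : Ln z₀ z (t * z) b e c := ⟨l.pz, l.pe, (l.pz.mzz t).symm ▸ l.pt, l.pz.mz l.tT⟩

theorem conj (g : G) : Ln z₀ (g * z * g⁻¹) (g * t * g⁻¹) (g * b * g⁻¹) (g * c * g⁻¹) (g * e * g⁻¹) :=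
  ⟨l.pz.conj g, l.pt.conj g, conj_mul (α := G) ▸ l.pe.conj g, isConj_conj l.tT.1 g,
    PP_conj g z ▸ conj_mem_cj g l.tP, by simpa using l.tT.2.2⟩

theorem w_symm : c * b * e = b * c * e := by rw [l.cb.eq]

theorem w_rot : b * e * c = b * c * e := by rw [mul_assoc, l.ec.eq, mul_assoc]

theorem w2 : b * c * e * (b * c * e) = 1 := by
  rw [← pow_two, (l.eb.symm.mul_left l.ec.symm).mul_pow, l.cb.symm.mul_pow, pow_two, pow_two, pow_two,
    l.pz.bb, l.pt.bb, l.pe.bb, ← l.tz.eq, l.pe.zz]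

theorem wc (h1 : Commute x b) (h2 : Commute x c) (h3 : Commute x e) : Commute x (b * c * e) :=
  (h1.mul_right h2).mul_right h3

theorem et : Commute e t := l.pt.comm_z l.ec

theorem actB (hx : x ∈ PP z) (h1 : ¬ Commute x t) :
    (x * c * x⁻¹ = e ∧ x * e * x⁻¹ = c) ∨ (x * c * x⁻¹ = e * (t * z) ∧ x * e * x⁻¹ = c * t) := by
  have e1 := l.pz.conj1 hx l.tP h1
  have e2 : x * (x * c * x⁻¹) * x⁻¹ = c := by
    rw [show x * (x * c * x⁻¹) * x⁻¹ = x * x * c * (x * x)⁻¹ by group]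
    rcases l.pz.sq x hx with a | a <;> rw [a]
    · simp
    · exact conj_eq l.cz.symm
  refine (l.pe.uniq (e1 ▸ l.pt.conj x).toLoc).imp (fun a => ⟨a, a ▸ e2⟩) fun a => ⟨a, ?_⟩
  rw [← l.pe.mzz e, ← conj_mul, ← a, e2, ← conj_mul, e1, conj_eq (l.pz.cz hx), l.pz.mzz]

theorem ceP : c * e ∈ PP z := by
  obtain ⟨x, hx, h1⟩ := l.pz.exists_nc l.tP (l.pz.nA l.tT)
  have := mul_mem (l.pz.nP c l.cz x hx) (inv_mem hx)
  rw [show c * x * c⁻¹ * x⁻¹ = c * (x * c * x⁻¹)⁻¹ by group] at this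
  rcases l.actB hx h1 with a | a <;> rw [a.1] at this
  · rw [l.pe.bi, ← mul_assoc] at this
    exact (mul_mem_cancel_right (mul_mem l.tP l.pz.zP)).1 this
  · rwa [← l.pe.bi, inv_inv] at this

theorem wP : b * c * e ∈ PP z := mul_assoc b c e ▸ mul_mem l.pz.bP l.ceP

theorem wP' : b * c * e ∈ PP t := l.w_symm ▸ l.symm.wP

theorem wb : Commute (b * c * e) b := l.pz.cb _ l.wP

theorem wt : Commute (b * c * e) t := l.pt.cz l.wP'

theorem actA (hx : x ∈ PP z) (h1 : Commute x t) :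
    (Commute x c ∧ Commute x (b * c * e)) ∨ (x * c * x⁻¹ = c * t ∧ ¬ Commute x (b * c * e)) := by
  have e1 : x * (b * c * e) * x⁻¹ = b * (x * c * x⁻¹) * (x * e * x⁻¹) := by
    rw [← conj_mul, ← conj_mul, conj_eq (l.pz.cb x hx)]
  have e2 : ∀ u, x * (b * c * e) * x⁻¹ = b * c * e * u → u = 1 ∨ u = z := fun u a => by
    rcases l.pz.cm x hx _ l.wP with a' | a'
    · exact Or.inl (by simpa [conj_eq a'] using a)
    · exact Or.inr (by simpa [a'] using a.symm)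
  rcases l.pt.nb x h1 with a | a <;> rcases l.pe.nb x (h1.mul_right (l.pz.cz hx)) with a' | a' <;>
    rw [a, a'] at e1
  · exact Or.inl ⟨of_conj_eq a, of_conj_eq e1⟩
  · rcases e2 _ (e1.trans (mul_assoc _ _ _).symm) with a | a
    · exact absurd a l.pe.z1
    · exact absurd (by simpa using a) l.pt.z1
  · exact ((e2 t (by rw [e1, ← mul_assoc, mul_assoc _ t, ← l.et.eq, ← mul_assoc])).elim l.pt.z1
      l.tT.2.2).elim
  · refine Or.inr ⟨a, fun e3 => l.pz.z1 ?_⟩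
    rw [conj_eq e3, show b * (c * t) * (e * (t * z)) = b * c * (t * e) * t * z by group, ← l.et.eq,
      ← mul_assoc, l.pt.mzz] at e1
    simpa using e1

theorem act (hx : x ∈ PP z) (hy : y ∈ PP z) : fm y (c * x * c⁻¹) =
    fm y x + fm x t * (fm y (b * c * e) + fm y t) + fm x (b * c * e) * fm y t := by
  have e0 : c * x * c⁻¹ = c * (x * c * x⁻¹)⁻¹ * x := by group
  have e1 : fm y (c * e) = fm y (b * c * e) := by
    rw [mul_assoc, l.pz.fm_mul hy l.pz.bP l.ceP, l.pz.fm_b hy, zero_add]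
  by_cases h1 : Commute x t
  · rcases l.actA hx h1 with ⟨a, a'⟩ | ⟨a, a'⟩
    · simp [conj_eq a.symm, fm0.2 h1, fm0.2 a']
    · rw [e0, a, mul_inv_rev, ← (l.pt.bz.inv_inv).eq, mul_inv_cancel_left, l.pt.zi,
        l.pz.fm_mul hy l.tP hx, fm0.2 h1, fm1.2 a']
      ring
  have e2 : x * (b * c * e) * x⁻¹ = b * (x * c * x⁻¹) * (x * e * x⁻¹) := by
    rw [← conj_mul, ← conj_mul, conj_eq (l.pz.cb x hx)]
  rcases l.actB hx h1 with ⟨a, a'⟩ | ⟨a, a'⟩ <;> rw [a, a'] at e2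
  · rw [e0, a, l.pe.bi, ← mul_assoc c, l.pz.fm_mul hy (mul_mem l.ceP (mul_mem l.tP l.pz.zP)) hx,
      l.pz.fm_mul hy l.ceP (mul_mem l.tP l.pz.zP), l.pz.ev_mz l.tP y hy, e1, fm1.2 h1,
      fm0.2 (of_conj_eq (e2.trans l.w_rot))]
    ring
  · have : ¬ Commute x (b * c * e) := fun e3 => l.pz.z1 (by
      rw [conj_eq e3, ← mul_assoc, ← mul_assoc, mul_assoc _ _ c, ← (l.pe.comm_z l.ec.symm).eq,
        ← mul_assoc, l.w_rot, l.tz.eq, mul_assoc _ (z * t), mul_assoc z, l.pt.zz] at e2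
      simpa using e2)
    rw [e0, a, ← l.pe.bi, inv_inv, l.pz.fm_mul hy l.ceP hx, e1, fm1.2 h1, fm1.2 this]
    grind

theorem comm_c (hx : x ∈ PP z) (h1 : Commute x t) (h2 : Commute x (b * c * e)) : Commute x c :=
  (l.actA hx h1).elim (fun a => a.1) fun a => absurd h2 a.2

theorem wT (h1 : IsConj z₀ (b * c * e)) (h2 : ¬ L4 z t (b * c * e)) : b * c * e ∈ TT z₀ z :=
  ⟨h1, l.wP, fun a => h2 (by simp [L4, a])⟩

theorem L4mul (hx : L4 z t x) (hy : L4 z t y) : L4 z t (x * y) := by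
  have e1 : ∀ x, z * (t * x) = t * (z * x) := fun x => by rw [← mul_assoc, ← l.tz.eq, mul_assoc]
  have e2 : ∀ x, t * (t * x) = x := fun x => by rw [← mul_assoc, l.pt.zz, one_mul]
  rcases hx with rfl | rfl | rfl | rfl <;> rcases hy with rfl | rfl | rfl | rfl <;>
    simp [L4, mul_assoc, e1, e2, l.pz.zz, l.pt.zz, ← l.tz.eq]

theorem L4sq (hx : L4 z t x) : x * x = 1 := by
  rcases hx with rfl | rfl | rfl | rfl
  exacts [one_mul 1, l.pz.zz, l.pt.zz, l.pe.zz]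

theorem w_mul (h1 : IsConj z₀ (b * c * e)) (h2 : ¬ L4 z t (b * c * e)) (hy : L4 z t y) :
    IsConj z₀ (b * c * e * y) := by
  have a := l.pz.mz (l.wT h1 h2)
  have k : ∀ w, IsConj z₀ w → w ∈ PP t → w ≠ t → IsConj z₀ (w * t) := fun w h1 h2 h3 =>
    (l.pt.mz ⟨h1, h2, h3⟩).1
  rcases hy with rfl | rfl | rfl | rfl
  · simpa using h1
  · exact a.1
  · exact k _ h1 l.wP' fun a => h2 (by simp [L4, a])
  · rw [l.tz.eq, ← mul_assoc]
    exact k _ a.1 (mul_mem l.wP' l.symm.tP) fun a => h2 (by rw [← l.pz.mzz (b * c * e), a]; simp [L4])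

/-- `ω` is determined up to the line. -/
theorem w_uniq {b' c' e' : G} (l' : Ln z₀ z t b' c' e') :
    ∃ y, L4 z t y ∧ b' * c' * e' = b * c * e * y := by
  have k : ∀ {s d d' : G}, Pt z₀ s d → Pt z₀ s d' → L4 z t s → ∃ y, L4 z t y ∧ d' = d * y :=
    fun h h' hs => (h.uniq h'.toLoc).elim (fun a => ⟨1, Or.inl rfl, by simp [a]⟩) fun a => ⟨_, hs, a⟩
  have m : ∀ {y d : G}, L4 z t y → Commute d z → Commute d t → Commute y d := fun hy h1 h2 => by
    rcases hy with rfl | rfl | rfl | rfl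
    exacts [Commute.one_left _, h1.symm, h2.symm, (h2.mul_right h1).symm]
  obtain ⟨y1, a1, rfl⟩ := k l.pz l'.pz (by simp [L4])
  obtain ⟨y2, a2, rfl⟩ := k l.pt l'.pt (by simp [L4])
  obtain ⟨y3, a3, rfl⟩ := k l.pe l'.pe (by simp [L4])
  refine ⟨_, l.L4mul (l.L4mul a1 a2) a3, ?_⟩
  rw [show b * y1 * (c * y2) * (e * y3) = b * (y1 * c) * y2 * e * y3 by group, (m a1 l.cz l.pt.bz).eq,
    show b * (c * y1) * y2 * e * y3 = b * c * (y1 * y2 * e) * y3 by group,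
    (m (l.L4mul a1 a2) (l.pz.comm_z l.eb) l.et).eq]
  group

theorem exists_conj {z' t' b' c' e' : G} (l' : Ln z₀ z' t' b' c' e') : ∃ g y, g * z * g⁻¹ = z' ∧
    g * t * g⁻¹ = t' ∧ L4 z' t' y ∧ b' * c' * e' = g * (b * c * e) * g⁻¹ * y := by
  obtain ⟨g, rfl⟩ := isConj_iff.1 (l.pz.cls.symm.trans l'.pz.cls)
  obtain ⟨k, h1, h2⟩ := l'.pz.trans (l.conj g).tT l'.tT
  have := (l.conj g).conj k
  rw [conj_eq h1, h2] at this
  obtain ⟨y, h3, h4⟩ := this.w_uniq l'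
  exact ⟨k * g, y, by rw [← conj_eq h1]; group, by rw [← h2]; group, h3, by rw [h4]; group⟩

theorem type0 (h : L4 z t (b * c * e)) {z' t' b' c' e' : G} (l' : Ln z₀ z' t' b' c' e') :
    L4 z' t' (b' * c' * e') := by
  obtain ⟨g, y, rfl, rfl, h1, h2⟩ := l.exists_conj l'
  rw [h2]
  refine l'.L4mul ?_ h1
  rcases h with a | a | a | a <;> simp [L4, a]

theorem type1 (h : IsConj z₀ (b * c * e)) (h' : ¬ L4 z t (b * c * e)) {z' t' b' c' e' : G}
    (l' : Ln z₀ z' t' b' c' e') : IsConj z₀ (b' * c' * e') := by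
  obtain ⟨g, y, rfl, rfl, h1, h2⟩ := l'.exists_conj l
  have := l.w_mul h h' h1
  rw [h2, mul_assoc, l.L4sq h1, mul_one] at this
  exact this.trans (isConj_iff.2 ⟨g⁻¹, by group⟩)

end Ln

end Cfsg.Agent.SymT
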